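import Cfsg.Agent.H516.OddFrame
import Cfsg.Agent.H413.JOneLocal
import Cfsg.Agent.OddCyclic.JFacts
import Cfsg.Agent.OddCyclic.KZeroCongr

/-!
# S4096, S4094, S3842: the row of `J1`, `p` odd (helper686)

* `Qa`, `Qd` : the subgroups of order 12 and 10 of `A5`;
* `exists_sub` : subgroups of order 24 and 20 of `C(t) = 2 × A5`;
* `card_fixed_le` : `|C_L(a)| ≤ 19`;
* `row`.
-/

set_option autoImplicit false

namespace Cfsg.Agent.H686.Odd.J1

open Subgroup Cfsg Cfsg.Agent.SporRec.J1.Defs Cfsg.Agent.OddCyclic.JFacts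

universe u

/-- the point stabilizer of `A5` -/
def Qa : Subgroup (alternatingGroup (Fin 5)) where
  carrier := {g | (g : Equiv.Perm (Fin 5)) 0 = 0}
  one_mem' := rfl
  mul_mem' := by
    intro g h hg hh
    change (g : Equiv.Perm (Fin 5)) ((h : Equiv.Perm (Fin 5)) 0) = 0
    rw [show (h : Equiv.Perm (Fin 5)) 0 = 0 from hh]
    exact hg
  inv_mem' := by
    intro g hg
    change (g : Equiv.Perm (Fin 5))⁻¹ 0 = 0
    rw [Equiv.Perm.inv_eq_iff_eq]
    exact (show (g : Equiv.Perm (Fin 5)) 0 = 0 from hg).symm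

instance : DecidablePred (· ∈ Qa) := fun g => inferInstanceAs (Decidable ((g : Equiv.Perm (Fin 5)) 0 = 0))

theorem card_Qa : Nat.card Qa = 12 := by
  rw [Nat.card_eq_fintype_card]
  decide +kernel

/-- an element of order 5 -/
def x5 : alternatingGroup (Fin 5) := ⟨finRotate 5, Equiv.Perm.mem_alternatingGroup.2 (by decide)⟩

/-- its normalizing elements, inverting or centralizing it -/
def Qd : Subgroup (alternatingGroup (Fin 5)) where
  carrier := {g | g * x5 * g⁻¹ = x5 ∨ g * x5 * g⁻¹ = x5⁻¹}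
  one_mem' := Or.inl (by simp)
  mul_mem' := by
    intro g h hg hh
    have e : g * h * x5 * (g * h)⁻¹ = g * (h * x5 * h⁻¹) * g⁻¹ := by group
    have e2 : g * x5⁻¹ * g⁻¹ = (g * x5 * g⁻¹)⁻¹ := by group
    rcases hg with hg | hg <;> rcases hh with hh | hh
    · left; rw [e, hh, hg]
    · right; rw [e, hh, e2, hg]
    · right; rw [e, hh, hg]
    · left; rw [e, hh, e2, hg, inv_inv]
  inv_mem' := by
    intro g hg
    rcases hg with hg | hg
    · left
      rw [inv_inv]
      nth_rw 1 [← hg]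
      group
    · right
      have e : x5 = (g * x5 * g⁻¹)⁻¹ := by rw [hg, inv_inv]
      calc g⁻¹ * x5 * g⁻¹⁻¹ = g⁻¹ * (g * x5 * g⁻¹)⁻¹ * g⁻¹⁻¹ := by rw [← e]
        _ = x5⁻¹ := by group

instance : DecidablePred (· ∈ Qd) := fun g => inferInstanceAs (Decidable (g * x5 * g⁻¹ = x5 ∨ g * x5 * g⁻¹ = x5⁻¹))

theorem card_Qd : Nat.card Qd = 10 := by
  rw [Nat.card_eq_fintype_card]
  decide +kernel

/-- subgroups of `C = A × B` -/
theorem exists_sub {L A B : Type*} [Group L] [Group A] [Group B] {C : Subgroup L} (e : C ≃* A × B) (Q : Subgroup B) :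
    ∃ R : Subgroup L, Nat.card R = Nat.card A * Nat.card Q := by
  refine ⟨(((⊤ : Subgroup A).prod Q).map e.symm.toMonoidHom).map C.subtype, ?_⟩
  rw [Nat.card_congr (Subgroup.equivMapOfInjective _ _ C.subtype_injective).toEquiv.symm,
    Nat.card_congr (Subgroup.equivMapOfInjective _ _ e.symm.injective).toEquiv.symm,
    Nat.card_congr (Subgroup.prodEquiv (⊤ : Subgroup A) Q).toEquiv, Nat.card_prod, Subgroup.card_top]

theorem isLocal {L : Type u} [Group L] (h : Spor.IsoJ1 L) : Local L := by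
  obtain ⟨e⟩ := h
  exact Cfsg.Agent.OddCyclic.KZeroCongr.local_congr e.symm Cfsg.Agent.H413.JOneLocal.isLocal

theorem card {L : Type u} [Group L] (h : Spor.IsoJ1 L) : Nat.card L = 175560 := by
  obtain ⟨e⟩ := h
  rw [Nat.card_congr e.toEquiv]
  exact Cfsg.Agent.H413.JOneLocal.card_J1

/-- the elements of order 7, 11, 19 are self-centralizing -/
theorem cent_big_le {L : Type u} [Group L] [Finite L] [IsSimpleGroup L] (h : Local L) (hc : Nat.card L = 175560) {x : L}
    (hx : Big (orderOf x)) : Nat.card (centralizer ({x} : Set L)) ∣ orderOf x := by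
  have h1 := cent_big h hc hx
  have h2 : ∀ r : ℕ, Big r → r ≠ orderOf x → Nat.Coprime (Nat.card (centralizer ({x} : Set L))) r := by
    intro r hr hne
    have hrp : r.Prime := by rcases hr with rfl | rfl | rfl <;> norm_num
    rw [Nat.coprime_comm, hrp.coprime_iff_not_dvd]
    intro hd
    have : Fact r.Prime := ⟨hrp⟩
    obtain ⟨y, hy⟩ := exists_prime_orderOf_dvd_card' (G := centralizer ({x} : Set L)) r hd
    refine big_false h hc hx (y := (y : L)) (by rw [Subgroup.orderOf_coe, hy]; exact hr)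
      (by rw [Subgroup.orderOf_coe, hy]; exact hne.symm) ?_
    exact (mem_centralizer_singleton_iff.1 y.2).symm
  rcases hx with hx | hx | hx
  · have a := h2 11 (Or.inr (Or.inl rfl)) (by rw [hx]; norm_num)
    have b := h2 19 (Or.inr (Or.inr rfl)) (by rw [hx]; norm_num)
    rw [hx]
    exact (a.mul_right b).dvd_of_dvd_mul_right (h1.trans (by norm_num))
  · have a := h2 7 (Or.inl rfl) (by rw [hx]; norm_num)
    have b := h2 19 (Or.inr (Or.inr rfl)) (by rw [hx]; norm_num)
    rw [hx]
    exact (a.mul_right b).dvd_of_dvd_mul_right (h1.trans (by norm_num))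
  · have a := h2 7 (Or.inl rfl) (by rw [hx]; norm_num)
    have b := h2 11 (Or.inr (Or.inl rfl)) (by rw [hx]; norm_num)
    rw [hx]
    exact (a.mul_right b).dvd_of_dvd_mul_right (h1.trans (by norm_num))

theorem prime_cases {r : ℕ} (hr : r.Prime) (h : r ∣ 175560) : r = 2 ∨ r = 3 ∨ r = 5 ∨ Big r := by
  have h1 : r ∈ Nat.primeFactors 175560 := Nat.mem_primeFactors.2 ⟨hr, h, by norm_num⟩
  have h2 : Nat.primeFactors 175560 ⊆ {2, 3, 5, 7, 11, 19} := by
    have e : 175560 = 2 ^ 3 * (3 * (5 * (7 * (11 * 19)))) := by norm_num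
    rw [e, Nat.primeFactors_mul (by norm_num) (by norm_num), Nat.primeFactors_mul (by norm_num) (by norm_num),
      Nat.primeFactors_mul (by norm_num) (by norm_num), Nat.primeFactors_mul (by norm_num) (by norm_num),
      Nat.primeFactors_mul (by norm_num) (by norm_num), Nat.primeFactors_pow _ (by norm_num),
      Nat.Prime.primeFactors (by norm_num), Nat.Prime.primeFactors (by norm_num), Nat.Prime.primeFactors (by norm_num),
      Nat.Prime.primeFactors (by norm_num), Nat.Prime.primeFactors (by norm_num), Nat.Prime.primeFactors (by norm_num)]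
    decide
  have h3 := h2 h1
  simp only [Finset.mem_insert, Finset.mem_singleton] at h3
  rcases h3 with h3 | h3 | h3 | h3 | h3 | h3
  · exact Or.inl h3
  · exact Or.inr (Or.inl h3)
  · exact Or.inr (Or.inr (Or.inl h3))
  · exact Or.inr (Or.inr (Or.inr (Or.inl h3)))
  · exact Or.inr (Or.inr (Or.inr (Or.inr (Or.inl h3))))
  · exact Or.inr (Or.inr (Or.inr (Or.inr (Or.inr h3))))

theorem card_fixed_le {L : Type u} [Group L] [Finite L] (h : Spor.IsoJ1 L) {p : ℕ} {a : MulAut L} {b : L}
    (S : Cfsg.Agent.H516.Sit p a b) : Nat.card (fixedSubgroup a) ≤ 19 := by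
  have hs := S.good.simple
  have hl := isLocal h
  have hc := card h
  have hb : orderOf b ∣ 175560 := by rw [← hc]; exact orderOf_dvd_natCard b
  rcases prime_cases S.bprime hb with h1 | h1 | h1 | h1
  · exact absurd h1 S.b_ne_two
  · have h2 := S.card_dvd (j := 1) (m := 15) (by rw [hl.cent3 b h1]; norm_num)
    exact (Nat.le_of_dvd (by norm_num) h2).trans (by norm_num)
  · have h2 := S.card_dvd (j := 1) (m := 15) (by rw [hl.cent5 b h1]; norm_num)
    exact (Nat.le_of_dvd (by norm_num) h2).trans (by norm_num)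
  · have h2 := cent_big_le hl hc h1
    have h3 := S.card_dvd (j := 0) (m := orderOf b) (by rwa [pow_zero, one_mul])
    have h4 := Nat.le_of_dvd (orderOf_pos b) h3
    rcases h1 with h1 | h1 | h1 <;> omega

/-- **The row of `J1`.** -/
theorem row {L : Type u} [Group L] [Finite L] (h : Spor.IsoJ1 L) {p : ℕ} {a : MulAut L} {b : L}
    (S : Cfsg.Agent.H516.Sit p a b) : False := by
  have hF := card_fixed_le h S
  have hl := isLocal h
  obtain ⟨t, ht⟩ : ∃ t : L, orderOf t = 2 := by
    have : Fact (Nat.Prime 2) := ⟨Nat.prime_two⟩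
    exact exists_prime_orderOf_dvd_card' 2 (by rw [card h]; norm_num)
  obtain ⟨f⟩ := hl.cent t ht
  have h2 : Nat.card (Multiplicative (ZMod 2)) = 2 := by simp
  by_cases h3 : p = 3
  · obtain ⟨Q, hQ⟩ := exists_sub f Qd
    rw [h2, card_Qd] at hQ
    have h4 := S.card_le (Q := Q) (by rw [hQ, h3]; norm_num)
    omega
  · obtain ⟨Q, hQ⟩ := exists_sub f Qa
    rw [h2, card_Qa] at hQ
    have h4 := S.card_le (Q := Q) (by
      rw [hQ]
      intro h5
      rcases S.prime.dvd_mul.1 (show p ∣ 2 ^ 3 * 3 by norm_num; exact h5) with h6 | h6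
      · exact S.ne_two ((Nat.prime_dvd_prime_iff_eq S.prime Nat.prime_two).1 (S.prime.dvd_of_dvd_pow h6))
      · exact h3 ((Nat.prime_dvd_prime_iff_eq S.prime Nat.prime_three).1 h6))
    omega

end Cfsg.Agent.H686.Odd.J1
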