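import Cfsg.Agent.H686.Odd.McLFive
import Cfsg.Agent.H345.EOneMcL
import Cfsg.Agent.H838.SurvMcL

/-!
# The row of `McL`, `p` odd: the centralizers of odd order (helper686)

* `three_even` : the elements of order `3 ^ k` commuting with `c` commute with an involution;
* `card_Q` : a subgroup of order 1000;
* `five_dvd` : the 3-central elements commute with an element of order 5;
* `odd_cent` : the centralizers of odd order of the nontrivial elements have order less than 500.
-/

set_option autoImplicit false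
set_option maxRecDepth 100000

namespace Cfsg.Agent.H686.Odd.McL

open Subgroup Equiv Cfsg.Agent.McLType.X275 Cfsg.Agent.McLType.Gens Cfsg.Agent.McLType.Model
open scoped commutatorElement Pointwise

/-! ### `C(c)` -/

theorem closure_le_c : (closure {a, b} : Subgroup G1) ≤ centralizer ({c} : Set G1) := by
  rw [closure_le]
  rintro x (rfl | rfl)
  · exact mem_centralizer_singleton_iff.2 ca.symm
  · exact mem_centralizer_singleton_iff.2 cb.symm

theorem s_mem : s ∈ centralizer ({c} : Set G1) := mem_centralizer_singleton_iff.2 sc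

theorem order_s : orderOf s = 6 := by
  have h1 := orderOf_dvd_of_pow_eq_one s_pow
  have h2 : ¬ orderOf s ∣ 2 := fun h => s2_ne (orderOf_dvd_iff_pow_eq_one.1 h)
  have h3 : ¬ orderOf s ∣ 3 := fun h => s3_ne (orderOf_dvd_iff_pow_eq_one.1 h)
  have h4 : orderOf s ≤ 6 := Nat.le_of_dvd (by norm_num) h1
  generalize orderOf s = k at *
  interval_cases k <;> first | rfl | (exfalso; revert h1 h2 h3; decide)

theorem card_c : Nat.card (centralizer ({c} : Set G1)) = 750 ∨ Nat.card (centralizer ({c} : Set G1)) = 1500 := by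
  have h1 : 125 ∣ Nat.card (centralizer ({c} : Set G1)) := by
    rw [← card_ab]; exact Subgroup.card_dvd_of_le closure_le_c
  have h2 : 6 ∣ Nat.card (centralizer ({c} : Set G1)) := by
    have h3 := orderOf_dvd_natCard (⟨s, s_mem⟩ : centralizer ({c} : Set G1))
    rwa [Subgroup.orderOf_mk, order_s] at h3
  have h3 : 125 * 6 ∣ Nat.card (centralizer ({c} : Set G1)) :=
    (by norm_num : Nat.Coprime 125 6).mul_dvd_of_dvd_of_dvd h1 h2
  have h4 := card_c_le
  have h5 : 0 < Nat.card (centralizer ({c} : Set G1)) := Nat.card_pos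
  obtain ⟨k, hk⟩ := h3
  omega

/-- **The elements of 3-power order commuting with `c`.** -/
theorem three_even {x : G1} (hx : x ∈ centralizer ({c} : Set G1)) {k : ℕ} (hk : x ^ 3 ^ k = 1) (h1 : x ≠ 1) :
    2 ∣ Nat.card (centralizer ({x} : Set G1)) := by
  obtain ⟨j, -, hj⟩ := (Nat.dvd_prime_pow Nat.prime_three).1 (orderOf_dvd_of_pow_eq_one hk)
  have h9 : ¬ 3 ^ 2 ∣ Nat.card (centralizer ({c} : Set G1)) := by
    rcases card_c with h | h <;> rw [h] <;> norm_num
  have ho : orderOf x = 3 := by
    rcases Nat.lt_or_ge j 2 with h | h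
    · interval_cases j
      · exact absurd (orderOf_eq_one_iff.1 (by rw [hj]; rfl)) h1
      · rw [hj, pow_one]
    · exfalso
      apply h9
      have h3 := orderOf_dvd_natCard (⟨x, hx⟩ : centralizer ({c} : Set G1))
      rw [Subgroup.orderOf_mk, hj] at h3
      exact (pow_dvd_pow 3 h).trans h3
  have ho2 : orderOf (s ^ 2) = 3 := by
    rw [orderOf_pow_of_dvd (by norm_num) (by rw [order_s]; norm_num), order_s]
  obtain ⟨u, hu⟩ := Cfsg.Agent.H1.RealTool.exists_conj_mem_zpowers (G := centralizer ({c} : Set G1)) Nat.prime_three h9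
    (x := ⟨s ^ 2, pow_mem s_mem 2⟩) (a := ⟨x, hx⟩) (by rw [Subgroup.orderOf_mk, ho2]) (by rw [Subgroup.orderOf_mk, ho])
  have hu' : (u : G1) * x * (u : G1)⁻¹ ∈ zpowers (s ^ 2) := by
    obtain ⟨k, hk⟩ := mem_zpowers_iff.1 hu
    exact mem_zpowers_iff.2 ⟨k, congrArg Subtype.val hk⟩
  rw [card_cent_of_mem Nat.prime_three ho2 h1 hu']
  have h3 : s ^ 3 ∈ centralizer ({s ^ 2} : Set G1) := mem_centralizer_singleton_iff.2 (by rw [← pow_add, ← pow_add])
  have h4 := orderOf_dvd_natCard (⟨s ^ 3, h3⟩ : centralizer ({s ^ 2} : Set G1))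
  rw [Subgroup.orderOf_mk, orderOf_pow_of_dvd (by norm_num) (by rw [order_s]; norm_num), order_s] at h4
  exact h4

/-! ### a subgroup of order 1000 -/

theorem n_norm : zpowers n ≤ normalizer ((closure {a, b} : Subgroup G1) : Set G1) := by
  have ha : a ∈ (closure {a, b} : Subgroup G1) := subset_closure (by simp)
  have hb : b ∈ (closure {a, b} : Subgroup G1) := subset_closure (by simp)
  have hc : c ∈ (closure {a, b} : Subgroup G1) := by
    rw [c, commutatorElement_def]
    exact mul_mem (mul_mem (mul_mem ha hb) (inv_mem ha)) (inv_mem hb)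
  have h1 : (closure {a, b} : Subgroup G1).map (MulAut.conj n).toMonoidHom ≤ closure {a, b} := by
    rw [MonoidHom.map_closure, closure_le]
    rintro _ ⟨x, (rfl | rfl), rfl⟩
    · change n * a * n⁻¹ ∈ _
      rw [na]
      exact mul_mem (pow_mem ha _) (mul_mem hb (pow_mem hc _))
    · change n * b * n⁻¹ ∈ _
      rw [nb]
      exact mul_mem (pow_mem ha _) (mul_mem (pow_mem hb _) hc)
  have h2 : (closure {a, b} : Subgroup G1).map (MulAut.conj n).toMonoidHom = closure {a, b} := by
    apply Subgroup.eq_of_le_of_card_ge h1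
    rw [Subgroup.card_map_of_injective (MulAut.conj n).injective]
  rw [zpowers_le, mem_normalizer_iff]
  intro g
  constructor
  · intro hg
    have h3 : (MulAut.conj n).toMonoidHom g ∈ (closure {a, b} : Subgroup G1).map (MulAut.conj n).toMonoidHom := ⟨g, hg, rfl⟩
    rw [h2] at h3
    exact h3
  · intro hg
    have h3 : n * g * n⁻¹ ∈ (closure {a, b} : Subgroup G1).map (MulAut.conj n).toMonoidHom := by rw [h2]; exact hg
    obtain ⟨g', hg', h4⟩ := h3
    have h5 : g' = g := (MulAut.conj n).injective h4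
    rwa [← h5]

theorem order_n : orderOf n = 8 := by
  have : Fact (Nat.Prime 2) := ⟨Nat.prime_two⟩
  exact orderOf_eq_prime_pow (p := 2) (n := 2) n4_ne (by rw [show 2 ^ (2 + 1) = 8 by norm_num]; exact n_pow)

/-- the subgroup of order 1000 -/
noncomputable def Q : Subgroup G1 := zpowers n ⊔ closure {a, b}

theorem card_Q : Nat.card Q = 1000 := by
  have h1 : Nat.card Q ≤ 1000 := by
    have h2 : Nat.card Q ≤ Nat.card (zpowers n) * Nat.card (closure {a, b} : Subgroup G1) := by
      have h3 := coe_mul_of_left_le_normalizer_right _ _ n_norm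
      have h4 : Nat.card (Q : Set G1) ≤ Nat.card ((zpowers n : Subgroup G1) : Set G1) *
          Nat.card ((closure {a, b} : Subgroup G1) : Set G1) := by
        unfold Q
        rw [h3]
        exact Set.natCard_mul_le
      exact h4
    rw [Nat.card_zpowers, order_n, card_ab] at h2
    exact h2
  have h2 : 8 ∣ Nat.card Q := by
    rw [← order_n, ← Nat.card_zpowers]
    exact Subgroup.card_dvd_of_le le_sup_left
  have h3 : 125 ∣ Nat.card Q := by
    rw [← card_ab]
    exact Subgroup.card_dvd_of_le le_sup_right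
  have h4 : 8 * 125 ∣ Nat.card Q := (by norm_num : Nat.Coprime 8 125).mul_dvd_of_dvd_of_dvd h2 h3
  have h5 : 0 < Nat.card Q := Nat.card_pos
  obtain ⟨k, hk⟩ := h4
  omega

/-! ### the 3-central elements -/

open Cfsg.Agent.McLType.ThreeElts (π P) in
theorem five_dvd {x : G1} (h1 : x ≠ 1) {k : ℕ} (hk : x ^ 3 ^ k = 1) {P' : Subgroup G1} (hP : Nat.card P' = 729)
    (hc : ∀ t ∈ P', x * t = t * x) : 5 ∣ Nat.card (centralizer ({x} : Set G1)) := by
  have : Fact (Nat.Prime 3) := ⟨Nat.prime_three⟩
  have h729 : (898128000 : ℕ).factorization 3 = 6 := by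
    rw [show (898128000 : ℕ) = 3 ^ 6 * 1232000 by norm_num, Nat.factorization_mul (by norm_num) (by norm_num),
      Nat.Prime.factorization_pow Nat.prime_three]
    simp [Nat.factorization_eq_zero_of_not_dvd]
  let S : Sylow 3 G1 := Sylow.ofCard P' (by rw [hP, card_G1, h729]; norm_num)
  let S0 : Sylow 3 G1 := Sylow.ofCard (P.comap ψ) (by
    rw [Cfsg.Agent.H838.SurvMcL.card_comap, card_G1, h729]; norm_num)
  obtain ⟨g, hg⟩ := MulAction.exists_smul_eq G1 S S0
  have hS : ∀ t ∈ P', g * t * g⁻¹ ∈ P.comap ψ := by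
    intro t ht
    have h3 : ((g • S : Sylow 3 G1) : Subgroup G1) = P.comap ψ := by rw [hg]; rfl
    rw [← h3, Sylow.coe_subgroup_smul]
    exact Subgroup.smul_mem_pointwise_smul t (MulAut.conj g) P' ht
  have hS' : ∀ t ∈ P.comap ψ, g⁻¹ * t * g ∈ P' := by
    intro t ht
    have h3 : ((g • S : Sylow 3 G1) : Subgroup G1) = P.comap ψ := by rw [hg]; rfl
    rw [← h3, Sylow.coe_subgroup_smul] at ht
    obtain ⟨t', ht', rfl⟩ := ht
    have : g⁻¹ * (MulAut.conj g t') * g = t' := by rw [MulAut.conj_apply]; group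
    change g⁻¹ * (MulAut.conj g t') * g ∈ P'
    rw [this]
    exact ht'
  set x' := g * x * g⁻¹ with hx'
  have hx1 : x' ≠ 1 := by
    intro h
    apply h1
    have : x = g⁻¹ * (g * x * g⁻¹) * g := by group
    rw [this, ← hx', h]
    group
  have hc' : ∀ t ∈ P.comap ψ, x' * t = t * x' := by
    intro t ht
    have h2 := hc _ (hS' t ht)
    calc x' * t = g * (x * (g⁻¹ * t * g)) * g⁻¹ := by rw [hx']; group
      _ = g * ((g⁻¹ * t * g) * x) * g⁻¹ := by rw [h2]
      _ = t * x' := by rw [hx']; group
  have hmem : x' ∈ P.comap ψ := by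
    have h2 : IsPGroup 3 (zpowers x') := by
      intro y
      obtain ⟨y, i, rfl⟩ := y
      refine ⟨k, Subtype.ext ?_⟩
      change (x' ^ i) ^ 3 ^ k = 1
      rw [← zpow_natCast, ← zpow_mul, mul_comm, zpow_mul, zpow_natCast]
      have h3 : x' ^ 3 ^ k = 1 := by rw [hx', conj_pow, hk]; group
      rw [h3, one_zpow]
    have h3 : zpowers x' ≤ normalizer ((P.comap ψ : Subgroup G1) : Set G1) := by
      rw [zpowers_le, mem_normalizer_iff]
      intro t
      constructor
      · intro ht
        rw [hc' t ht, mul_inv_cancel_right]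
        exact ht
      · intro ht
        have h4 := hc' _ ht
        have h5 : x' * t * x'⁻¹ = t := by
          have h6 : x' * (x' * t * x'⁻¹) * x'⁻¹ = x' * t * x'⁻¹ := by rw [h4, mul_inv_cancel_right]
          have h7 : x' * t * x'⁻¹ = t := by
            have h8 := congrArg (fun w => x'⁻¹ * w * x') h6
            simpa [mul_assoc] using h8
          exact h7
        rwa [h5] at ht
    have h4 : IsPGroup 3 (zpowers x' ⊔ P.comap ψ : Subgroup G1) :=
      IsPGroup.to_sup_of_normal_right' h2 S0.2 h3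
    have h5 := S0.3 h4 le_sup_right
    rw [show P.comap ψ = (S0 : Subgroup G1) from rfl, ← h5]
    exact mem_sup_left (mem_zpowers _)
  have hz : Cfsg.Agent.H838.SurvMcL.z ∈ P.comap ψ := by
    rw [mem_comap, Cfsg.Agent.H838.SurvMcL.psi_z]
    exact Cfsg.Agent.McLType.ThreeElts.π_mem 3 (by norm_num)
  have hran : ∀ t ∈ P, ∃ t0 ∈ P.comap ψ, ψ t0 = t := by
    intro t ht
    have h2 := Cfsg.Agent.McLType.ThreeElts.P_le_K0 ht
    rw [← Cfsg.Agent.H904.McLCent.range_ψ] at h2
    obtain ⟨t0, rfl⟩ := h2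
    exact ⟨t0, ht, rfl⟩
  have hzc : ∀ t ∈ P, ψ Cfsg.Agent.H838.SurvMcL.z * t = t * ψ Cfsg.Agent.H838.SurvMcL.z := by
    intro t ht
    obtain ⟨t0, ht0, rfl⟩ := hran t ht
    rw [← map_mul, ← map_mul, mem_centralizer_singleton_iff.1 (Cfsg.Agent.H838.SurvMcL.comap_le ht0)]
  have hxc : ∀ t ∈ P, ψ x' * t = t * ψ x' := by
    intro t ht
    obtain ⟨t0, ht0, rfl⟩ := hran t ht
    rw [← map_mul, ← map_mul, hc' t0 ht0]
  have h2 := Cfsg.Agent.H345.EOne.center_zpowers hz hmem hzc hxc (by
    intro h
    have h3 : Cfsg.Agent.H838.SurvMcL.z = 1 := ψ_injective (by rw [h, map_one])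
    have h4 := Cfsg.Agent.H838.SurvMcL.z_ord
    rw [h3, orderOf_one] at h4
    norm_num at h4)
  have h3 : x' ∈ zpowers Cfsg.Agent.H838.SurvMcL.z := by
    obtain ⟨i, hi⟩ := mem_zpowers_iff.1 h2
    refine mem_zpowers_iff.2 ⟨i, ψ_injective ?_⟩
    rw [map_zpow, hi]
  rw [← card_cent_conj g x]
  exact ((by norm_num : 5 ∣ 3645).trans Cfsg.Agent.H838.SurvMcL.dvd_G1).trans (Subgroup.card_dvd_of_le (cent_le_of_mem h3))

/-! ### the centralizers of odd order -/

theorem orderOf_dvd_cent {x y : G1} (h : x * y = y * x) : orderOf x ∣ Nat.card (centralizer ({y} : Set G1)) := by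
  have h1 : x ∈ centralizer ({y} : Set G1) := mem_centralizer_singleton_iff.2 h
  have h2 := orderOf_dvd_natCard (⟨x, h1⟩ : centralizer ({y} : Set G1))
  rwa [Subgroup.orderOf_mk] at h2

theorem seven_dvd {y : G1} (hy : orderOf y = 7) : Nat.card (centralizer ({y} : Set G1)) ∣ 14 := by
  have h := (Cfsg.Agent.H904.McLCent.seven isoMcL_G1 (zpowers y) (by rw [Nat.card_zpowers, hy])).1
  rwa [Cfsg.Agent.H904.SylOne.centralizer_zpowers_eq] at h

theorem eleven_card {y : G1} (hy : orderOf y = 11) : Nat.card (centralizer ({y} : Set G1)) = 11 := by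
  have h := (Cfsg.Agent.H904.McLCent.eleven isoMcL_G1 (zpowers y) (by rw [Nat.card_zpowers, hy])).1
  rwa [Cfsg.Agent.H904.SylOne.centralizer_zpowers_eq] at h

/-- **The centralizers of odd order.** -/
theorem odd_cent {x : G1} (h1 : x ≠ 1) (ho : Odd (Nat.card (centralizer ({x} : Set G1)))) :
    Nat.card (centralizer ({x} : Set G1)) < 500 := by
  by_contra hcon
  push Not at hcon
  have hxX := orderOf_dvd_cent (x := x) (y := x) rfl
  have hox : Odd (orderOf x) := ho.of_dvd_nat hxX
  have hox1 : orderOf x ≠ 1 := fun h => h1 (orderOf_eq_one_iff.1 h)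
  have h7 : ¬ 7 ∣ Nat.card (centralizer ({x} : Set G1)) := by
    intro h
    have : Fact (Nat.Prime 7) := ⟨by norm_num⟩
    obtain ⟨y, hy⟩ := exists_prime_orderOf_dvd_card' 7 h
    have hy' : orderOf (y : G1) = 7 := by rw [Subgroup.orderOf_coe, hy]
    have h2 := (orderOf_dvd_cent (mem_centralizer_singleton_iff.1 y.2).symm).trans (seven_dvd hy')
    have h3 : orderOf x = 7 := by
      have h4 : orderOf x ∣ 7 := by
        have h5 : Nat.Coprime (orderOf x) 2 := Nat.coprime_two_right.2 hox
        exact h5.dvd_of_dvd_mul_left h2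
      rcases (Nat.dvd_prime (by norm_num)).1 h4 with h5 | h5
      · exact absurd h5 hox1
      · exact h5
    have h4 := Nat.le_of_dvd (by norm_num) (seven_dvd h3)
    omega
  have h11 : ¬ 11 ∣ Nat.card (centralizer ({x} : Set G1)) := by
    intro h
    have : Fact (Nat.Prime 11) := ⟨by norm_num⟩
    obtain ⟨y, hy⟩ := exists_prime_orderOf_dvd_card' 11 h
    have hy' : orderOf (y : G1) = 11 := by rw [Subgroup.orderOf_coe, hy]
    have h2 := orderOf_dvd_cent (mem_centralizer_singleton_iff.1 y.2).symm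
    rw [eleven_card hy'] at h2
    have h3 : orderOf x = 11 := by
      rcases (Nat.dvd_prime (by norm_num)).1 h2 with h5 | h5
      · exact absurd h5 hox1
      · exact h5
    have h4 := eleven_card h3
    omega
  have hcop : ∀ r : ℕ, r.Prime → ¬ r ∣ Nat.card (centralizer ({x} : Set G1)) →
      Nat.Coprime (Nat.card (centralizer ({x} : Set G1))) r := fun r hr h =>
    Nat.coprime_comm.1 ((Nat.Prime.coprime_iff_not_dvd hr).2 h)
  have hd : Nat.card (centralizer ({x} : Set G1)) ∣ 3 ^ 6 * 5 ^ 3 := by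
    have h2 : Nat.card (centralizer ({x} : Set G1)) ∣ (2 ^ 7 * 7 * 11) * (3 ^ 6 * 5 ^ 3) := by
      have := (centralizer ({x} : Set G1)).card_subgroup_dvd_card
      rw [card_G1] at this
      exact this
    refine Nat.Coprime.dvd_of_dvd_mul_left ?_ h2
    refine Nat.Coprime.mul_right (Nat.Coprime.mul_right (Nat.Coprime.pow_right _ (Nat.coprime_two_right.2 ho)) ?_) ?_
    · exact hcop 7 (by norm_num) h7
    · exact hcop 11 (by norm_num) h11
  have : Fact (Nat.Prime 5) := ⟨Nat.prime_five⟩
  by_cases h5 : 5 ∣ Nat.card (centralizer ({x} : Set G1))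
  · by_cases h5x : 5 ∣ orderOf x
    · have hx5 := orderOf_pow_orderOf_div (orderOf_pos x).ne' h5x
      have hle : centralizer ({x} : Set G1) ≤ centralizer ({x ^ (orderOf x / 5)} : Set G1) :=
        cent_le_of_mem (pow_mem (mem_zpowers x) _)
      rcases five_cases hx5 with h2 | ⟨g, hg⟩
      · have := Subgroup.card_le_of_le hle
        omega
      · have hne : x ^ (orderOf x / 5) ≠ 1 := by
          intro h
          rw [h, orderOf_one] at hx5
          norm_num at hx5
        have h2 := card_cent_of_mem Nat.prime_five order_c hne hg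
        have h3 := Subgroup.card_dvd_of_le hle
        rw [h2] at h3
        have h4 : Nat.card (centralizer ({x} : Set G1)) ∣ 375 := by
          have h5 : Nat.card (centralizer ({x} : Set G1)) ∣ 2 ^ 2 * 375 := by
            rcases card_c with h | h
            · rw [h] at h3; exact h3.trans (by norm_num)
            · rw [h] at h3; exact h3
          exact (Nat.Coprime.pow_right 2 (Nat.coprime_two_right.2 ho)).dvd_of_dvd_mul_left h5
        have := Nat.le_of_dvd (by norm_num) h4
        omega
    · -- `x` is a 3-element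
      have h3x : orderOf x ∣ 3 ^ 6 :=
        (Nat.Coprime.pow_right 3 (Nat.coprime_comm.1 ((Nat.Prime.coprime_iff_not_dvd Nat.prime_five).2 h5x))).dvd_of_dvd_mul_right
          (hxX.trans hd)
      have hx3 : x ^ 3 ^ 6 = 1 := orderOf_dvd_iff_pow_eq_one.1 h3x
      obtain ⟨y, hy⟩ := exists_prime_orderOf_dvd_card' 5 h5
      have hy' : orderOf (y : G1) = 5 := by rw [Subgroup.orderOf_coe, hy]
      have hxy : x * y = y * x := (mem_centralizer_singleton_iff.1 y.2).symm
      rcases five_cases hy' with h2 | ⟨g, hg⟩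
      · have h25 : 5 ^ 2 ∣ Nat.card (centralizer ({(y : G1)} : Set G1)) :=
          Cfsg.Agent.CpAutCo3.MTw.sq_dvd (by rw [card_G1]; norm_num)
            (IsPGroup.of_card (n := 1) (by rw [Nat.card_zpowers, hy', pow_one]))
        have h3 : 3 ∣ orderOf x := by
          obtain ⟨j, -, hj⟩ := (Nat.dvd_prime_pow Nat.prime_three).1 h3x
          rcases j with _ | j
          · exact absurd (by rw [hj]; rfl) hox1
          · rw [hj]; exact dvd_pow_self 3 (by omega)
        have h4 := h3.trans (orderOf_dvd_cent hxy)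
        have h5 : 3 * 5 ^ 2 ∣ Nat.card (centralizer ({(y : G1)} : Set G1)) :=
          (by norm_num : Nat.Coprime 3 (5 ^ 2)).mul_dvd_of_dvd_of_dvd h4 h25
        have := Nat.le_of_dvd Nat.card_pos h5
        omega
      · have hy1 : g * y * g⁻¹ ≠ 1 := by
          intro h
          have h3 : orderOf (g * y * g⁻¹) = 5 := by rw [← hy']; exact (MulAut.conj g).orderOf_eq (y : G1)
          rw [h, orderOf_one] at h3
          norm_num at h3
        have h2 := mem_zpowers_of_prime Nat.prime_five order_c hy1 hg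
        have h3 : g * x * g⁻¹ ∈ centralizer ({c} : Set G1) := by
          refine cent_le_of_mem h2 (mem_centralizer_singleton_iff.2 ?_)
          calc g * x * g⁻¹ * (g * y * g⁻¹) = g * (x * y) * g⁻¹ := by group
            _ = g * (y * x) * g⁻¹ := by rw [hxy]
            _ = g * y * g⁻¹ * (g * x * g⁻¹) := by group
        have h4 := three_even h3 (k := 6) (by rw [conj_pow, hx3]; group) (by
          intro h
          apply h1
          have : x = g⁻¹ * (g * x * g⁻¹) * g := by group
          rw [this, h]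
          group)
        rw [card_cent_conj] at h4
        exact (Nat.not_even_iff_odd.2 ho) (even_iff_two_dvd.2 h4)
  · have h3 : Nat.card (centralizer ({x} : Set G1)) ∣ 3 ^ 6 :=
      (Nat.Coprime.pow_right 3 (hcop 5 Nat.prime_five h5)).dvd_of_dvd_mul_right hd
    obtain ⟨j, hj6, hj⟩ := (Nat.dvd_prime_pow Nat.prime_three).1 h3
    have hj' : j = 6 := by
      by_contra hne
      have h4 : j ≤ 5 := by omega
      have h5 : 3 ^ j ≤ 3 ^ 5 := Nat.pow_le_pow_right (by norm_num) h4
      rw [hj] at hcon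
      omega
    have h4 := five_dvd h1 (k := 6) (orderOf_dvd_iff_pow_eq_one.1 (hxX.trans h3)) (P' := centralizer ({x} : Set G1))
      (by rw [hj, hj']; norm_num) (fun t ht => (mem_centralizer_singleton_iff.1 ht).symm)
    exact h5 h4

end Cfsg.Agent.H686.Odd.McL
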