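import Cfsg.Agent.H516.OddFrame

/-!
# `Sit` : the centralizer of an element of odd order (helper686)

`Sit.exists_odd` : there is an element `x ≠ 1` with a centralizer **of odd order** containing `C_L(a)`. So a sporadic group
in which the centralizers of odd order are smaller than `|L|₂` (or a `p'`-subgroup) satisfies the row: `Sit.false_of_odd`,
`Sit.false_of_odd'`.
-/

set_option autoImplicit false

namespace Cfsg.Agent.H686.Odd

open Subgroup Cfsg Cfsg.Agent.H516

universe u

variable {L : Type u} [Group L] [Finite L] {p : ℕ} {a : MulAut L} {b : L}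

omit [Finite L] in
theorem res_pow (H : Subgroup L) (hH : H.map a.toMonoidHom = H) (k : ℕ) (s : H) :
    (((resAut a H hH) ^ k) s : L) = (a ^ k) s := by
  induction k generalizing s with
  | zero => rfl
  | succ k ih =>
    rw [pow_succ, pow_succ, MulAut.mul_apply, MulAut.mul_apply, ih]
    rfl

/-- **The odd part of `a` is `conj x` with `|C(x)|` odd.** -/
theorem exists_odd (S : Sit p a b) :
    ∃ x : L, x ≠ 1 ∧ Odd (orderOf x) ∧ MulAut.conj x ∈ zpowers a ∧ Odd (Nat.card (centralizer ({x} : Set L))) ∧
      fixedSubgroup a ≤ centralizer ({x} : Set L) := by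
  obtain ⟨n, m, hm, hn⟩ := Nat.exists_eq_pow_mul_and_not_dvd (orderOf_pos a).ne' 2 (by norm_num)
  have hmodd : Odd m := by rw [← Nat.not_even_iff_odd, even_iff_two_dvd]; exact hm
  have ho : orderOf (a ^ 2 ^ n) = m := by
    rw [orderOf_pow_of_dvd (pow_ne_zero _ (by norm_num)) (by rw [hn]; exact dvd_mul_right _ _), hn,
      Nat.mul_div_cancel_left _ (pow_pos (by norm_num) _)]
  obtain ⟨x, hx⟩ := S.good.oi (a ^ 2 ^ n) (by rw [ho]; exact hmodd)
  have hxm : MulAut.conj x ∈ zpowers a := by rw [← hx]; exact pow_mem (mem_zpowers a) _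
  have hxa : a x = x := conj_mem_fixed_of_zpowers hxm S.good.center
  have hox : orderOf x = m := by rw [← ho, hx, orderOf_injective _ (conj_injective S.good.center)]
  refine ⟨x, ?_, by rw [hox]; exact hmodd, hxm, ?_, fixed_le_centralizer hxm⟩
  · rintro rfl
    rw [map_one] at hx
    exact (Nat.not_odd_iff_even.2 (even_fixed S.good.even hx)) S.odd
  · by_contra hodd
    rw [Nat.not_odd_iff_even] at hodd
    have hm := Cfsg.Agent.H516.map_centralizer hxa
    have h1 : (resAut a (centralizer ({x} : Set L)) hm) ^ 2 ^ n = 1 := by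
      ext s
      rw [res_pow, hx, MulAut.conj_apply, MulAut.one_apply]
      have h2 := mem_centralizer_singleton_iff.1 s.2
      rw [← h2, mul_inv_cancel_right]
    have h2 := even_fixed hodd h1
    have h3 : (fixedSubgroup (resAut a (centralizer ({x} : Set L)) hm)).map (centralizer ({x} : Set L)).subtype ≤
        fixedSubgroup a := by
      rintro _ ⟨s, hs, rfl⟩
      exact congrArg Subtype.val hs
    have h4 := Subgroup.card_dvd_of_le h3
    rw [Subgroup.card_map_of_injective (Subgroup.subtype_injective _)] at h4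
    exact (Nat.not_even_iff_odd.2 (S.odd.of_dvd_nat h4)) h2

/-- **The criterion.** `|C(x)| < N` for the elements `x ≠ 1` with centralizers of odd order, `N = |Q|`, `Q` a `p'`-subgroup. -/
theorem false_of_odd (S : Sit p a b) {Q : Subgroup L} (hQ : ¬ p ∣ Nat.card Q)
    (h : ∀ x : L, x ≠ 1 → Odd (Nat.card (centralizer ({x} : Set L))) →
      Nat.card (centralizer ({x} : Set L)) < Nat.card Q) : False := by
  obtain ⟨x, hx, -, -, hx2, hx3⟩ := exists_odd S
  have h1 := h x hx hx2
  have h2 := Subgroup.card_le_of_le hx3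
  have h3 := S.card_le hQ
  omega

/-- the same with `|L|₂` -/
theorem false_of_odd' (S : Sit p a b) {k : ℕ} (hk : 2 ^ k ∣ Nat.card L)
    (h : ∀ x : L, x ≠ 1 → Odd (Nat.card (centralizer ({x} : Set L))) →
      Nat.card (centralizer ({x} : Set L)) < 2 ^ k) : False := by
  obtain ⟨x, hx, -, -, hx2, hx3⟩ := exists_odd S
  have h1 := h x hx hx2
  have h2 := Subgroup.card_le_of_le hx3
  have h3 := S.two_pow_le hk
  omega

end Cfsg.Agent.H686.Odd
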