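import Cfsg.Agent.H686.Odd.McLMain
import Cfsg.Agent.H686.Odd.SitOdd
import Cfsg.Agent.H343.Has

/-!
# S4096, S4094, S3842: the row of `McL`, `p` odd (helper686)

The centralizers of odd order of the nontrivial elements of `McL` have order less than 500 (`McLMain`); there are
subgroups of order 1000 and 729.
-/

set_option autoImplicit false

namespace Cfsg.Agent.H686.Odd.McL

open Subgroup Cfsg Cfsg.Agent.McLType.X275

universe u

/-- **The row of `McL`.** -/
theorem row {L : Type u} [Group L] [Finite L] (h : Spor.IsoMcL L) {p : ℕ} {a : MulAut L} {b : L}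
    (S : Cfsg.Agent.H516.Sit p a b) : False := by
  obtain ⟨e⟩ := h
  obtain ⟨e'⟩ := isoMcL_G1
  let f : G1 ≃* L := e'.trans e.symm
  have hodd : ∀ x : L, x ≠ 1 → Odd (Nat.card (centralizer ({x} : Set L))) →
      Nat.card (centralizer ({x} : Set L)) < 500 := by
    intro x hx ho
    obtain ⟨y, rfl⟩ := f.surjective x
    rw [H343.card_centralizer_equiv f y] at ho ⊢
    exact odd_cent (fun h => hx (by rw [h, map_one])) ho
  by_cases h3 : p = 3
  · refine Cfsg.Agent.H686.Odd.false_of_odd S (Q := Q.map f.toMonoidHom) ?_ ?_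
    · rw [Subgroup.card_map_of_injective f.injective, card_Q, h3]
      norm_num
    · intro x hx ho
      rw [Subgroup.card_map_of_injective f.injective, card_Q]
      exact (hodd x hx ho).trans (by norm_num)
  · have : Fact (Nat.Prime 3) := ⟨Nat.prime_three⟩
    obtain ⟨Q, hQ⟩ := Sylow.exists_subgroup_card_pow_prime (G := L) 3 (n := 6) (by
      rw [← Nat.card_congr f.toEquiv, card_G1]
      norm_num)
    refine Cfsg.Agent.H686.Odd.false_of_odd S (Q := Q) ?_ ?_
    · rw [hQ]
      intro h
      exact h3 ((Nat.prime_dvd_prime_iff_eq S.prime Nat.prime_three).1 (S.prime.dvd_of_dvd_pow h))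
    · intro x hx ho
      rw [hQ]
      exact (hodd x hx ho).trans (by norm_num)

end Cfsg.Agent.H686.Odd.McL
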