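import Cfsg.Agent.H516.OddFrame
import Cfsg.Agent.H847.JTwoOdd
import Cfsg.Agent.J2Type.ThreeF
import Cfsg.Agent.H904.SylOne

/-!
# S4096, S4094, S3842: the row of `J2`, `p` odd (helper686)

The subgroups of odd order of `J2` prime to 7 have order at most 77 (`H847.JTwoOdd`), the elements of order 7 are
self-centralizing, `2 ^ 7` divides the order.
-/

set_option autoImplicit false

namespace Cfsg.Agent.H686.Odd.J2

open Subgroup Cfsg

universe u

/-- **The row of `J2`.** -/
theorem row {L : Type u} [Group L] [Finite L] (h : Spor.IsoJ2 L) {p : ℕ} {a : MulAut L} {b : L}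
    (S : Cfsg.Agent.H516.Sit p a b) : False := by
  have hc := Cfsg.Agent.H847.JTwoOdd.card_of h
  have h128 := S.two_pow_le (k := 7) (by rw [hc]; norm_num)
  by_cases h7 : 7 ∣ Nat.card (fixedSubgroup a)
  · have hf7 : Fact (Nat.Prime 7) := ⟨by norm_num⟩
    obtain ⟨y, hy⟩ := exists_prime_orderOf_dvd_card' 7 h7
    have hy' : orderOf (y : L) = 7 := by rw [Subgroup.orderOf_coe, hy]
    obtain ⟨t, u, Q₀, v, ρ, D⟩ := KFacts.J2.Facts.exists_dat_of h
    have hR : Nat.card (zpowers (y : L)) = 7 := by rw [Nat.card_zpowers, hy']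
    obtain ⟨P, hP⟩ := Cfsg.Agent.H904.SylOne.exists_sylow hR (by rw [hc]; norm_num)
    obtain ⟨h1, -, -⟩ := J2Type.ThreeF.sylow_seven D.F P
    rw [hP] at h1
    have hcy : ∀ x : L, x * y = y * x → x ∈ zpowers (y : L) := by
      intro x hx
      rw [← h1, mem_centralizer_iff]
      rintro _ ⟨k, rfl⟩
      exact ((show Commute x (y : L) from hx).zpow_right k).symm.eq
    have hb : b ∈ zpowers (y : L) := hcy b (mem_centralizer_singleton_iff.1 (S.le y.2)).symm
    have hby : (y : L) ∈ zpowers b := by
      have h2 : zpowers b ≤ zpowers (y : L) := by rwa [zpowers_le]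
      have h3 := Subgroup.card_dvd_of_le h2
      rw [hR, Nat.card_zpowers] at h3
      have h4 : orderOf b = 7 := by
        rcases (Nat.dvd_prime (by norm_num)).1 h3 with h4 | h4
        · exact absurd S.bprime (by rw [h4]; norm_num)
        · exact h4
      have h5 : zpowers b = zpowers (y : L) := Subgroup.eq_of_le_of_card_ge h2 (by rw [hR, Nat.card_zpowers, h4])
      rw [h5]
      exact mem_zpowers _
    have hle : fixedSubgroup a ≤ zpowers (y : L) := by
      intro x hx
      apply hcy
      obtain ⟨k, hk⟩ := mem_zpowers_iff.1 hby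
      rw [← hk]
      exact ((show Commute x b from mem_centralizer_singleton_iff.1 (S.le hx)).zpow_right k).eq
    have h2 := Subgroup.card_le_of_le hle
    rw [hR] at h2
    omega
  · have h1 := Cfsg.Agent.H847.JTwoOdd.j2_odd h _ S.odd h7
    omega

end Cfsg.Agent.H686.Odd.J2
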