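import Cfsg.Agent.H58.McLOdd
import Cfsg.Agent.H669.RO.McL
import Cfsg.Agent.H805.NilMcL
import Cfsg.Agent.H1.RealTool

/-!
# The row of `McL`, `p` odd: the elements of order five (helper686)

* `a`, `b`, `c = [a, b]` : a Sylow 5-subgroup; `s` of order 6 commuting with `c`; `n` of order 8 normalizing;
* `card_c_le` : `|C(c)| ≤ 1500` (adjacency patterns).
-/

set_option autoImplicit false
set_option maxRecDepth 100000

namespace Cfsg.Agent.H686.Odd.McL

open Subgroup Equiv Cfsg.Agent.SporadicStructure.PermChain Cfsg.Agent.SporadicA.PermTab Cfsg.Agent.H904.CentChk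
  Cfsg.Agent.H904.McLCent Cfsg.Agent.McLType.X275 Cfsg.Agent.McLType.Gens Cfsg.Agent.McLType.Model Cfsg.Agent.H58.McLOdd
open scoped commutatorElement

universe u

section Two

variable {T : Type u} [Group T] [Finite T] {n : ℕ} {ψ : T →* Perm (Fin n)} {R : ℕ → ℕ → ℕ} {x : T} {tb : ℕ → ℕ}

/-- **the bound with two points** -/
theorem card_cent_le2 (_S : Sys ψ R x tb) (iv iv' : ℕ → ℕ)
    (hiv : ∀ g : T, g * x = x * g → ∀ i : Fin n, iv (ψ g i : Fin n) = iv i) (b v : Fin n) {m m' : ℕ}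
    (hc : ((List.range n).filter fun b' => Nat.beq (iv b') (iv b)).length ≤ m)
    (hiv' : ∀ g : T, g * x = x * g → ψ g b = b → ∀ i : Fin n, iv' (ψ g i : Fin n) = iv' i)
    (hc' : ((List.range n).filter fun b' => Nat.beq (iv' b') (iv' v)).length ≤ m')
    (h1 : ∀ g : T, g * x = x * g → ψ g b = b → ψ g v = v → g = 1) :
    Nat.card ↥(centralizer ({x} : Set T)) ≤ m' * m := by
  classical
  have hft : Fintype ↥(centralizer ({x} : Set T)) := Fintype.ofFinite _
  let f : ↥(centralizer ({x} : Set T)) → ℕ := fun g => ((ψ g.1 b : Fin n) : ℕ)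
  let L := (List.range n).filter fun b' => Nat.beq (iv b') (iv b)
  let L' := (List.range n).filter fun b' => Nat.beq (iv' b') (iv' v)
  have himg : (Finset.univ.image f).card ≤ m := by
    refine le_trans (Finset.card_le_card (t := L.toFinset) ?_) ((List.toFinset_card_le L).trans hc)
    intro i hi
    obtain ⟨g, -, rfl⟩ := Finset.mem_image.1 hi
    rw [List.mem_toFinset]
    refine List.mem_filter.2 ⟨List.mem_range.2 (ψ g.1 b).2, ?_⟩
    change Nat.beq (iv (ψ g.1 b : Fin n)) (iv b) = true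
    rw [hiv _ (mem_centralizer_singleton_iff.1 g.2) b]
    exact Nat.beq_refl _
  rw [Nat.card_eq_fintype_card, ← Finset.card_univ]
  refine (Finset.card_le_mul_card_image (f := f) Finset.univ m' ?_).trans (Nat.mul_le_mul_left _ himg)
  intro i hi
  obtain ⟨g0, -, rfl⟩ := Finset.mem_image.1 hi
  have hg0 := mem_centralizer_singleton_iff.1 g0.2
  -- the fibre over `g0 b`
  let f' : ↥(centralizer ({x} : Set T)) → ℕ := fun g => ((ψ (g0⁻¹ * g : ↥(centralizer ({x} : Set T))).1 v : Fin n) : ℕ)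
  have hfix : ∀ g ∈ Finset.univ.filter (fun g => f g = f g0), ψ (g0⁻¹ * g : ↥(centralizer ({x} : Set T))).1 b = b := by
    intro g hg
    have h2 : ψ g.1 b = ψ g0.1 b := Fin.ext (Finset.mem_filter.1 hg).2
    have : ((g0⁻¹ * g : ↥(centralizer ({x} : Set T))) : T) = (g0 : T)⁻¹ * (g : T) := rfl
    rw [this, map_mul, Perm.mul_apply, h2, map_inv]
    simp
  have h3 : ((Finset.univ.filter (fun g => f g = f g0)).image f').card ≤ m' := by
    refine le_trans (Finset.card_le_card (t := L'.toFinset) ?_) ((List.toFinset_card_le L').trans hc')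
    intro i hi
    obtain ⟨g, hg, rfl⟩ := Finset.mem_image.1 hi
    rw [List.mem_toFinset]
    refine List.mem_filter.2 ⟨List.mem_range.2 (ψ _ v).2, ?_⟩
    change Nat.beq (iv' (ψ (g0⁻¹ * g : ↥(centralizer ({x} : Set T))).1 v : Fin n)) (iv' v) = true
    rw [hiv' _ (mem_centralizer_singleton_iff.1 (g0⁻¹ * g).2) (hfix g hg) v]
    exact Nat.beq_refl _
  rw [← Finset.card_image_of_injOn (f := f') ?_]
  · exact h3
  · intro g hg h hh hgh
    have e1 := hfix g hg
    have e2 := hfix h hh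
    have e3 : ψ (g0⁻¹ * g : ↥(centralizer ({x} : Set T))).1 v = ψ (g0⁻¹ * h : ↥(centralizer ({x} : Set T))).1 v := Fin.ext hgh
    have e4 : g0⁻¹ * g = (g0⁻¹ * h) * (g⁻¹ * h)⁻¹ := by group
    have h4 := mem_centralizer_singleton_iff.1 ((g0⁻¹ * g)⁻¹ * (g0⁻¹ * h)).2
    have h5 : ((g0⁻¹ * g)⁻¹ * (g0⁻¹ * h) : ↥(centralizer ({x} : Set T))).1 = 1 := by
      have e5 : (((g0⁻¹ * g)⁻¹ * (g0⁻¹ * h) : ↥(centralizer ({x} : Set T))) : T) =
        ((g0⁻¹ * g : ↥(centralizer ({x} : Set T))) : T)⁻¹ * ((g0⁻¹ * h : ↥(centralizer ({x} : Set T))) : T) := rfl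
      apply h1 _ h4
      · rw [e5, map_mul, Perm.mul_apply, e2, map_inv, Perm.inv_eq_iff_eq]
        exact e1.symm
      · rw [e5, map_mul, Perm.mul_apply, ← e3, map_inv, Perm.inv_eq_iff_eq]
    have h6 : (g0⁻¹ * g)⁻¹ * (g0⁻¹ * h) = 1 := Subtype.ext h5
    have h7 : g⁻¹ * h = 1 := by rw [← h6]; group
    exact inv_mul_eq_one.1 h7

end Two

/-- the table of `c` -/
def tc : ℕ := 0x403e0a7124374690a400c280458941f40881d0470282fc5185c2161504801d1ac344380c21b84083701c0540b4818a91761587902709c1d87a0851b21182908318c02c6d05b0a623c018120c40dc078351dc128358841e62f0098a10ca15c3410e03206c0d0770ba124768db1922c01a00103c19c830050221b40385f02c168600790f618c3d0320462f8179081262981c8d50702b44b08608826c0b83e1301005402109a234208c71ea3a82c01501c0fc4704800407c6c0ba11021c4a80c162010218de20a3a08810a1cc38c7b8420ea1548205916a0804c90113c2a8848eb1d22dc7e10f04c3c0410d01942683986a1c02e4860fb1de0cc2789108a39c890ce112270450ab14430c560ff13e0ec6f87d0de0c41705e010304590240d20f4598cf0580ac180501f2034320001963e03307f1fa0d8301110e41f81486c1003b0628781a6274868741e23886b8a52000284604b15c394708cc19a25c288af0121305c02816c3f87207117a3d8838b41880f01286103035064081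

/-- a word of order 6 commuting with `c` -/
def s6 : List ℕ := [3, 6, 3, 5, 4, 6, 2, 5, 6, 0, 5]
/-- a word of order 8 normalizing `⟨a, b⟩` -/
def n8 : List ℕ := [1, 6, 1, 3, 6, 5, 4, 2, 0, 5, 3, 6]

theorem cA : (chk (pw x5 5) [] && chk (pw y5 5) [] && chk (cm x5 y5 ++ x5) (x5 ++ cm x5 y5) &&
    chk (cm x5 y5 ++ y5) (y5 ++ cm x5 y5) && !(Nat.beq (app (cm x5 y5) 0) (app [] 0))) = true := by
  decide +kernel

theorem cB : (chk (pw s6 6) [] && chk (s6 ++ cm x5 y5) (cm x5 y5 ++ s6) && !(Nat.beq (app (pw s6 2) 0) (app [] 0)) &&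
    !(Nat.beq (app (pw s6 3) 0) (app [] 0))) = true := by
  decide +kernel

theorem cC : (chk (pw n8 8) [] && chk (cj n8 x5) (pw x5 3 ++ (y5 ++ pw (cm x5 y5) 3)) &&
    chk (cj n8 y5) (pw x5 4 ++ (pw y5 2 ++ cm x5 y5)) && !(Nat.beq (app (pw n8 4) 1) (app [] 1))) = true := by
  decide +kernel

theorem cD : (chk (pw (cm x5 y5) 5) []) = true := by
  decide +kernel

/-- a fixed point of `a ^ i * b ^ j`, `k = 5 i + j` -/
def fp : List ℕ := [0, 28, 28, 28, 28, 0, 41, 14, 12, 7, 0, 85, 49, 27, 21, 0, 31, 17, 48, 79, 0, 51, 4, 87, 46]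

theorem cE : ∀ i j : Fin 5, (i = 0 ∧ j = 0) ∨ ((fp.getD (5 * i + j) 0 < 275) ∧
    app (pw x5 i ++ pw y5 j) (fp.getD (5 * i + j) 0) = fp.getD (5 * i + j) 0) := by
  decide +kernel

theorem tc_eq : ∀ i : Fin 275, app (cm x5 y5) i = lk tc i := by decide +kernel

/-- generator -/
noncomputable def a : G1 := wd x5
/-- generator -/
noncomputable def b : G1 := wd y5
/-- the commutator -/
noncomputable def c : G1 := ⁅a, b⁆
/-- of order 6 -/
noncomputable def s : G1 := wd s6
/-- of order 8 -/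
noncomputable def n : G1 := wd n8

theorem c_eq : c = wd (cm x5 y5) := (wd_cm x5 y5).symm

theorem a_pow : a ^ 5 = 1 := by
  have h := cA
  simp only [Bool.and_eq_true, Bool.not_eq_true'] at h
  rw [a, ← wd_pw]; exact eq_of_chk h.1.1.1.1

theorem b_pow : b ^ 5 = 1 := by
  have h := cA
  simp only [Bool.and_eq_true, Bool.not_eq_true'] at h
  rw [b, ← wd_pw]; exact eq_of_chk h.1.1.1.2

theorem ca : c * a = a * c := by
  have h := cA
  simp only [Bool.and_eq_true, Bool.not_eq_true'] at h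
  rw [c_eq, a, ← wd_app, ← wd_app]; exact eq_of_chk h.1.1.2

theorem cb : c * b = b * c := by
  have h := cA
  simp only [Bool.and_eq_true, Bool.not_eq_true'] at h
  rw [c_eq, b, ← wd_app, ← wd_app]; exact eq_of_chk h.1.2

theorem c_ne : c ≠ 1 := by
  have h := cA
  simp only [Bool.and_eq_true, Bool.not_eq_true'] at h
  rw [c_eq, ← wd_nil']; exact ne_of_pt (by norm_num) h.2

theorem c_pow : c ^ 5 = 1 := by
  rw [c_eq, ← wd_pw]; exact eq_of_chk cD

theorem s_pow : s ^ 6 = 1 := by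
  have h := cB
  simp only [Bool.and_eq_true, Bool.not_eq_true'] at h
  rw [s, ← wd_pw]; exact eq_of_chk h.1.1.1

theorem sc : s * c = c * s := by
  have h := cB
  simp only [Bool.and_eq_true, Bool.not_eq_true'] at h
  rw [c_eq, s, ← wd_app, ← wd_app]; exact eq_of_chk h.1.1.2

theorem s2_ne : s ^ 2 ≠ 1 := by
  have h := cB
  simp only [Bool.and_eq_true, Bool.not_eq_true'] at h
  rw [s, ← wd_pw, ← wd_nil']; exact ne_of_pt (by norm_num) h.1.2

theorem s3_ne : s ^ 3 ≠ 1 := by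
  have h := cB
  simp only [Bool.and_eq_true, Bool.not_eq_true'] at h
  rw [s, ← wd_pw, ← wd_nil']; exact ne_of_pt (by norm_num) h.2

theorem n_pow : n ^ 8 = 1 := by
  have h := cC
  simp only [Bool.and_eq_true, Bool.not_eq_true'] at h
  rw [n, ← wd_pw]; exact eq_of_chk h.1.1.1

theorem na : n * a * n⁻¹ = a ^ 3 * (b * c ^ 3) := by
  have h := cC
  simp only [Bool.and_eq_true, Bool.not_eq_true'] at h
  have h1 := eq_of_chk h.1.1.2
  rw [wd_cj, wd_app, wd_app, wd_pw, wd_pw, ← c_eq] at h1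
  exact h1

theorem nb : n * b * n⁻¹ = a ^ 4 * (b ^ 2 * c) := by
  have h := cC
  simp only [Bool.and_eq_true, Bool.not_eq_true'] at h
  have h1 := eq_of_chk h.1.2
  rw [wd_cj, wd_app, wd_app, wd_pw, wd_pw, ← c_eq] at h1
  exact h1

theorem n4_ne : n ^ 4 ≠ 1 := by
  have h := cC
  simp only [Bool.and_eq_true, Bool.not_eq_true'] at h
  rw [n, ← wd_pw, ← wd_nil']; exact ne_of_pt (by norm_num) h.2

/-- the noncentral products have fixed points -/
theorem exists_fix {i j : ℕ} (hi : i < 5) (hj : j < 5) (h : ¬ (i = 0 ∧ j = 0)) :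
    ∃ k : Fin 275, ψ (a ^ i * b ^ j) k = k := by
  rcases cE ⟨i, hi⟩ ⟨j, hj⟩ with h1 | ⟨h1, h2⟩
  · exact absurd ⟨congrArg Fin.val h1.1, congrArg Fin.val h1.2⟩ h
  · refine ⟨⟨_, h1⟩, Fin.ext ?_⟩
    rw [a, b, ← wd_pw, ← wd_pw, ← wd_app, app_spec]
    exact h2

theorem rep : Rep G1 ψ := ⟨ψ_injective, range_ψ⟩

theorem sys : Sys ψ (bitM 275 adjM) c (lk tc) := rep.sys (fun i => by rw [c_eq, app_spec]; exact tc_eq i)

/-! ### the bound of `|C(c)|` -/

theorem u1 : ((List.range 275).filter fun b' => Nat.beq (code (bitM 275 adjM) (lk tc) [] 5 b')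
    (code (bitM 275 adjM) (lk tc) [] 5 2)).length ≤ 125 := by decide +kernel

theorem u2 : ((List.range 275).filter fun b' => Nat.beq (code (bitM 275 adjM) (lk tc) (cyc (lk tc) 5 2) 5 b')
    (code (bitM 275 adjM) (lk tc) (cyc (lk tc) 5 2) 5 38)).length ≤ 12 := by decide +kernel

/-- the points -/
def F2 : List ℕ := cyc (lk tc) 5 2 ++ cyc (lk tc) 5 38
/-- the points -/
def F3 : List ℕ := F2 ++ cyc (lk tc) 5 1
/-- the points -/
def F4 : List ℕ := F3 ++ cyc (lk tc) 5 0

theorem u3 : ((List.range 275).all fun v => Nat.beq v 1 || !Nat.beq (code (bitM 275 adjM) (lk tc) F2 5 v)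
    (code (bitM 275 adjM) (lk tc) F2 5 1)) = true := by decide +kernel

theorem u4 : ((List.range 275).all fun v => Nat.beq v 0 || !Nat.beq (code (bitM 275 adjM) (lk tc) F3 5 v)
    (code (bitM 275 adjM) (lk tc) F3 5 0)) = true := by decide +kernel

theorem lt_F4 : ∀ f ∈ F4, f < 275 := by decide +kernel

theorem lt_cyc : ∀ f ∈ cyc (lk tc) 5 2, f < 275 := by decide +kernel

theorem nd : nodupB ((List.range 275).map (code (bitM 275 adjM) (lk tc) F4 5)) = true := by decide +kernel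

/-- **`|C(c)| ≤ 1500`.** -/
theorem card_c_le : Nat.card (centralizer ({c} : Set G1)) ≤ 1500 := by
  have : Finite G1 := Nat.finite_of_card_ne_zero (by rw [card_G1]; norm_num)
  have S := sys
  refine card_cent_le2 S (code (bitM 275 adjM) (lk tc) [] 5) (code (bitM 275 adjM) (lk tc) (cyc (lk tc) 5 2) 5)
    (fun g hg i => S.code_eq hg (F := []) (fun i hi => absurd hi (by simp)) (by simp) 5 i) 2 38 (m := 125) (m' := 12) u1
    ?_ u2 ?_
  · intro g hg h0 i
    exact S.code_eq hg (S.fix_cyc hg 5 2 (by norm_num) h0) lt_cyc 5 i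
  · intro g hg h0 h1
    have f2 : Fix ψ g F2 := (S.fix_cyc hg 5 2 (by norm_num) h0).append (S.fix_cyc hg 5 38 (by norm_num) h1)
    have l2 : ∀ f ∈ F2, f < 275 := fun f hf => lt_F4 f (by
      unfold F4 F3
      exact List.mem_append_left _ (List.mem_append_left _ hf))
    have l3 : ∀ f ∈ F3, f < 275 := fun f hf => lt_F4 f (by
      unfold F4
      exact List.mem_append_left _ hf)
    have f3 : Fix ψ g F3 := f2.append (S.fix_cyc hg 5 1 (by norm_num) (S.fix_of_unique hg f2 l2 5 1 (by norm_num) u3))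
    have f4 : Fix ψ g F4 := f3.append (S.fix_cyc hg 5 0 (by norm_num) (S.fix_of_unique hg f3 l3 5 0 (by norm_num) u4))
    exact S.eq_one hg f4 lt_F4 5 rfl (nodup_of_nodupB nd)

end Cfsg.Agent.H686.Odd.McL
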